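import Cfsg.Agent.H53.CY.OPlusFour
import Cfsg.Agent.H726.CY.Tor
import Cfsg.Agent.H442.CY.OPlusRow

/-!
# S4829, `PΩ₈⁺(q)`, `p ∤ q` (helper53)

* `rowA_d1_D4` : `p ∣ q - 1`;
* `fourRow` : the row `m = 4`, `oplus` : the field of `RowsAN`.
-/

set_option autoImplicit false
set_option linter.unusedSectionVars false

namespace Cfsg.Agent.H53.CY

open Cfsg Cfsg.Lie Cfsg.Agent.ChevalleyStructure Cfsg.Agent.ChevalleyStructure.CoxeterGeomTypes
  Cfsg.Agent.H287.OC Cfsg.Agent.H770.CY Cfsg.Agent.H776.CY Cfsg.Agent.H726.CY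

universe u

theorem uD4 : ∀ s : Fin 24, ∃ i i' : Fin 4, Nat.gcd (chevD4.cartan i s).natAbs (chevD4.cartan i' s).natAbs ∣ 4 := by
  decide +kernel

theorem wD4 : ∀ (j : Fin 4) (s : Fin 24), (s : ℕ) = chevD4.simple j ∨ ∃ i i' : Fin 4,
    Nat.gcd (chevD4.cartan i s - chevD4.cartan i (chevD4.simple j)).natAbs
      (chevD4.cartan i' s - chevD4.cartan i' (chevD4.simple j)).natAbs ∣ 4 := by decide +kernel

/-- **`D₄(q)`, `p ∣ q - 1`**, all automorphisms -/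
theorem rowA_d1_D4 (K : Type u) [Field K] [Fintype K] {p : ℕ} [hpp : Fact p.Prime] (hp2 : p ≠ 2)
    (hd : p ∣ Fintype.card K - 1) [Fintype ↥(chevD4.group K)] : RowA p ↥(chevD4.group K) :=
  rowA_d1 hp4 K (by decide) (by decide) (by decide +kernel) hd (sepU (N := 24) rfl hpp.out hp2 uD4) Set.univ
    (fun j _ => sepW (N := 24) rfl hpp.out hp2 (wD4 j)) (fun i => Or.inl (Set.mem_univ i))

/-- **the row `m = 4`** -/
theorem fourRow {p : ℕ} [hp : Fact p.Prime] (hp2 : p ≠ 2) : H442.CY.FourRow p := by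
  intro F _ _ _ _ hq _ hd hnc
  refine rowA_oplus_four_of hq (fun h => ?_) (fun h => rowA_d1_D4 F hp2 h) hd
  obtain ⟨P⟩ : Nonempty (Sylow p (POmega F (quadFormPlus 4 F))) := inferInstance
  exact absurd (h P) (hnc P)

/-- **the field `oplus`** -/
theorem oplus {p : ℕ} [hp : Fact p.Prime] (hp2 : p ≠ 2) :
    RowForAN p (fun X _ => ∃ (F : Type) (_ : Field F) (_ : Fintype F) (m : ℕ), (p : F) ≠ 0 ∧
      4 ≤ m ∧ Nonempty (X ≃* POmega F (quadFormPlus m F))) :=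
  H442.CY.oplus_of hp2 (fourRow hp2)

end Cfsg.Agent.H53.CY
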